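import Cfsg.Agent.Lib.Helper33.KS.Defs

/-!
# Piece P6 of helper33's symmetric amalgam farm (helper23)
-/

set_option autoImplicit false

namespace Cfsg.Agent.Lib.Helper23.KS

open Subgroup MulAction Cfsg.Agent.Lib.Helper33.KS
open Cfsg.Agent.Lib.Helper22 (conjS mem_conjS conjS_mem conjS_mul conjS_one)

variable {G : Type*} [Group G] {V : Type*} [MulAction G V] {adj : V → V → Prop}
  {Q Z : V → Subgroup G}

theorem p6 (hC : Cub adj Q Z) {b : ℕ} (hb : MinB adj Z b) (h2 : P2 adj Q Z b) (h3 : P3 adj Z b)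
    (h4 : P4 adj Z) (h5 : P5 adj Z b) : P6 adj Z := by
  have hb2 : (2 : ℤ) ≤ (b : ℤ) := by exact_mod_cast hb.two_le
  -- a critical walk
  obtain ⟨f, l, hpath, hncm⟩ : ∃ (f : ℤ → V) (l : ℤ), IsPath adj f l (l + b) ∧
      ¬ Cmt Z (f l) (f (l + b)) := by
    have := hb.not
    unfold Cm at this
    push Not at this
    exact this
  have hA0B0 : adj (f l) (f (l + 1)) := hpath l le_rfl (by omega)
  obtain ⟨C₀, hA0C0, hC0B0⟩ := hC.ex hA0B0
  have hcrit := h5 f l C₀ ⟨hpath, hncm⟩ (hC.symm hA0C0) hC0B0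
  obtain ⟨hpath', hncm'⟩ := hcrit
  set f' := Function.update f (l - 1) C₀ with hf'
  have e1 : f' (l - 1) = C₀ := by rw [hf']; simp
  have e2 : f' (l - 1 + b) = f (l + b - 1) := by
    rw [hf', Function.update_of_ne (by omega)]; congr 1; ring
  have e3 : f' (l - 1 + 1) = f l := by
    rw [hf', Function.update_of_ne (by omega)]; congr 1; ring
  obtain ⟨c, hc, x', hx', hcx'⟩ : ∃ c ∈ Z (f' (l - 1)), ∃ x' ∈ Z (f' (l - 1 + b)),
      c * x' ≠ x' * c := by
    unfold Cmt at hncm'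
    push Not at hncm'
    exact hncm'
  obtain ⟨hW1, hW2⟩ := h3 f' (l - 1) hpath' c hc x' hx' hcx'
  set r := c * x' * c * x' with hr
  rw [e1, e3] at hW1
  -- r ∈ Z B'
  have hadj2 : adj (f' (l - 1 + b)) (f' (l - 1 + b - 1)) := by
    have := hpath' (l - 1 + b - 1) (by omega) (by omega)
    rw [sub_add_cancel] at this
    exact hC.symm this
  have hrB' : r ∈ Z (f (l + b - 1)) := by
    have := (h4 _ _ r hadj2 hW2).1
    rwa [e2] at this
  -- r commutes with Z A'
  have hcm1 : Cmt Z (f (l + b - 1)) (f (l + b)) := by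
    have h1 := hb.lt 1 (by have := hb.two_le; omega) f (l + b - 1) (by
      intro i hi1 hi2
      exact hpath i (by omega) (by push_cast at hi2; omega))
    have e : l + (b : ℤ) - 1 + ((1 : ℕ) : ℤ) = l + b := by push_cast; ring
    rwa [e] at h1
  obtain ⟨a, ha, x, hx, hax⟩ : ∃ a ∈ Z (f l), ∃ x ∈ Z (f (l + b)), a * x ≠ x * a := by
    unfold Cmt at hncm
    push Not at hncm
    exact hncm
  have hxQB : x ∈ Q (f (l + 1)) := by
    have := (h2 f (l + 1) (l + b) (by
      intro i hi1 hi2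
      exact hpath i (by omega) hi2) (by omega) (by omega)).1
    exact this hx
  have hxB : x ∈ St G (f (l + 1)) := hC.QA _ hxQB
  have hxA : x ∈ St G (f l) := hC.QB (hC.symm hA0B0) hxQB
  have hxQA : x ∉ Q (f l) := fun h => hax (hC.QZ _ x h a ha).symm
  have hxC : x ∉ St G C₀ := fun h => hxQA (hC.TT hA0B0 hA0C0 (Ne.symm hC0B0) ⟨⟨hxA, hxB⟩, h⟩)
  obtain ⟨-, -, hTr, -, hequi⟩ := h4 C₀ (f l) r (hC.symm hA0C0) hW1
  have hcen : St G (f l) ≤ centralizer {r} := by
    apply hC.gen hA0C0 (centralizer {r}) x _ hxA hxC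
    · rw [mem_centralizer_singleton_iff]; exact (hcm1 r hrB' x hx).symm
    · intro t ht; rw [mem_centralizer_singleton_iff]; exact hTr t ⟨ht.2, ht.1⟩
  -- transport
  intro C A hCA
  obtain ⟨g, hgC, hgA⟩ := hC.trans (hC.symm hA0C0) hCA
  refine ⟨g * r * g⁻¹, ?_, ?_⟩
  · have := hequi g
    rwa [hgC, hgA] at this
  · intro y hy
    have h1 : g⁻¹ * y * g ∈ St G (f l) := by
      show (g⁻¹ * y * g) • f l = f l
      have hy' : y • A = A := hy
      rw [mul_smul, mul_smul, hgA, hy', ← hgA, inv_smul_smul]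
    have h2' := hcen h1
    rw [mem_centralizer_singleton_iff] at h2'
    calc y * (g * r * g⁻¹) = g * ((g⁻¹ * y * g) * r) * g⁻¹ := by group
      _ = g * (r * (g⁻¹ * y * g)) * g⁻¹ := by rw [h2']
      _ = g * r * g⁻¹ * y := by group

end Cfsg.Agent.Lib.Helper23.KS
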